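import Groth.Agent.RegLoc6.Descent
import Mathlib.RingTheory.IntegralClosure.IntegrallyClosed
import Groth.Prelude.Def_Curv2
import Mathlib.AlgebraicGeometry.Morphisms.Flat

/-! Descending properties of local rings from one field extension to all. -/

noncomputable section

set_option linter.style.haveILetI false
set_option backward.isDefEq.respectTransparency false
set_option backward.isDefEq.respectTransparency.types false

universe u

open CategoryTheory CategoryTheory.Limits AlgebraicGeometry TensorProduct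

namespace Groth.Agent.VarBC

/-- Normality descends along faithfully flat maps. -/
theorem isIntegrallyClosed_of_faithfullyFlat (R S : Type u) [CommRing R] [CommRing S] [Algebra R S]
    [Module.FaithfullyFlat R S] [IsDomain S] [IsIntegrallyClosed S] :
    IsDomain R ∧ IsIntegrallyClosed R := by
  have hinj := FaithfulSMul.algebraMap_injective R S
  have hdom : IsDomain R := hinj.isDomain _
  refine ⟨hdom, (isIntegrallyClosed_iff (FractionRing R)).mpr fun {x} hx => ?_⟩
  let j : FractionRing R →+* FractionRing S :=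
    IsFractionRing.lift (A := R) (g := (algebraMap S (FractionRing S)).comp (algebraMap R S))
      ((IsFractionRing.injective S (FractionRing S)).comp hinj)
  have hj : ∀ r, j (algebraMap R _ r) = algebraMap S _ (algebraMap R S r) := fun r =>
    IsFractionRing.lift_algebraMap _ r
  obtain ⟨a, b, hb, rfl⟩ := IsFractionRing.div_surjective (A := R) x
  have hint : IsIntegral S (j (algebraMap R _ a / algebraMap R _ b)) := by
    obtain ⟨p, hp, hpx⟩ := hx
    refine ⟨p.map (algebraMap R S), hp.map _, ?_⟩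
    rw [Polynomial.eval₂_map, show (algebraMap S (FractionRing S)).comp (algebraMap R S) =
      j.comp (algebraMap R (FractionRing R)) from RingHom.ext fun r => (hj r).symm,
      ← Polynomial.hom_eval₂, hpx, map_zero]
  obtain ⟨c, hc⟩ := IsIntegrallyClosed.isIntegral_iff.mp hint
  have hb0 : b ≠ 0 := nonZeroDivisors.ne_zero hb
  have hb' : algebraMap R (FractionRing R) b ≠ 0 := IsFractionRing.to_map_ne_zero_of_mem_nonZeroDivisors hb
  have h1 : algebraMap R S a = c * algebraMap R S b := by
    apply IsFractionRing.injective S (FractionRing S)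
    rw [map_mul, hc, ← hj, ← hj, ← map_mul, div_mul_cancel₀ _ hb']
  have h2 : a ∈ Ideal.span {b} := by
    rw [← Ideal.comap_map_eq_self_of_faithfullyFlat (B := S) (Ideal.span {b}), Ideal.mem_comap,
      Ideal.map_span, Set.image_singleton, Ideal.mem_span_singleton']
    exact ⟨c, h1.symm⟩
  obtain ⟨d, rfl⟩ := Ideal.mem_span_singleton'.mp h2
  exact ⟨d, by rw [map_mul, mul_div_assoc, div_self hb', mul_one]⟩

theorem isNoetherianRing_of_faithfullyFlat (A B : Type u) [CommRing A] [CommRing B] [Algebra A B]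
    [Module.FaithfullyFlat A B] [IsNoetherianRing B] : IsNoetherianRing A :=
  Submodule.IsNoetherian.of_isNoetherian_tensorProduct_of_faithfullyFlat (R := A) (M := A) (A := B)
    (isNoetherian_of_linearEquiv (TensorProduct.AlgebraTensorModule.rid A B B).symm)

theorem algebraMap_tmul_one {k K k' : Type u} [Field k] [Field K] [Algebra k K] [Field k'] [Algebra k k'] (x : k) :
    algebraMap k K x ⊗ₜ[k] (1 : k') = (1 : K) ⊗ₜ[k] algebraMap k k' x := by
  rw [Algebra.algebraMap_eq_smul_one, Algebra.algebraMap_eq_smul_one, TensorProduct.smul_tmul]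

theorem fg_top_of_tensor {k K k' L : Type u} [Field k] [Field K] [Algebra k K] [Field k'] [Algebra k k']
    [Field L] [Algebra k' L] (φ : K ⊗[k] k' →+* L)
    (hφ : ∀ b : k', φ (1 ⊗ₜ b) = algebraMap k' L b)
    (hgen : ∀ l : L, ∃ a b, l = φ a / φ b)
    (hK : (⊤ : IntermediateField k K).FG) : (⊤ : IntermediateField k' L).FG := by
  classical
  obtain ⟨s, hs⟩ := hK
  let g : K →+* L := φ.comp Algebra.TensorProduct.includeLeftRingHom
  refine ⟨s.image g, top_le_iff.1 ?_⟩
  let M := IntermediateField.adjoin k' ((s.image g : Finset L) : Set L)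
  have hg : ∀ a : K, g a ∈ M := by
    intro a
    have ha : a ∈ IntermediateField.adjoin k (s : Set K) := hs ▸ IntermediateField.mem_top
    induction ha using IntermediateField.adjoin_induction with
    | mem x hx => exact IntermediateField.subset_adjoin _ _ (Finset.mem_coe.2 (Finset.mem_image_of_mem g hx))
    | algebraMap x =>
      have e : g (algebraMap k K x) = algebraMap k' L (algebraMap k k' x) := by
        rw [← hφ]
        show φ (algebraMap k K x ⊗ₜ[k] (1 : k')) = _
        rw [Algebra.algebraMap_eq_smul_one, Algebra.algebraMap_eq_smul_one, TensorProduct.smul_tmul]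
      rw [e]
      exact M.algebraMap_mem _
    | add x y _ _ hx hy => rw [map_add]; exact M.add_mem hx hy
    | inv x _ hx => rw [map_inv₀]; exact M.inv_mem hx
    | mul x y _ _ hx hy => rw [map_mul]; exact M.mul_mem hx hy
  have hall : ∀ t : K ⊗[k] k', φ t ∈ M := by
    intro t
    induction t using TensorProduct.induction_on with
    | zero => rw [map_zero]; exact M.zero_mem
    | tmul a b =>
      rw [show a ⊗ₜ[k] b = (a ⊗ₜ[k] (1 : k')) * ((1 : K) ⊗ₜ[k] b) by simp, map_mul, hφ]
      exact M.mul_mem (hg a) (M.algebraMap_mem _)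
    | add x y hx hy => rw [map_add]; exact M.add_mem hx hy
  intro l _
  obtain ⟨a, b, rfl⟩ := hgen l
  exact M.div_mem (hall a) (hall b)

variable (k : Type u) [Field k] (X : Scheme.{u}) [X.Over (Spec (CommRingCat.of k))]

/-- Two points of base changes over the same point are dominated by a point of a further base change,
flat over the first. -/
theorem exists_over_both (k' : Type u) [Field k'] [Algebra k k'] (K : Type u) [Field K] [Algebra k K]
    (x' : ↥(Curv2.bc k X k')) (y : ↥(Curv2.bc k X K))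
    (h : Curv2.bcFst k X K y = Curv2.bcFst k X k' x') :
    letI : (Curv2.bc k X k').Over (Spec (CommRingCat.of k')) := ⟨Curv2.bcSnd k X k'⟩
    ∃ (L : Type u) (_ : Field L) (_ : Algebra k' L)
      (g : Curv2.bc k' (Curv2.bc k X k') L ⟶ Curv2.bc k X K) (w : ↥(Curv2.bc k' (Curv2.bc k X k') L)),
      ((⊤ : IntermediateField k K).FG → (⊤ : IntermediateField k' L).FG) ∧ Flat g ∧
        Curv2.bcFst k' (Curv2.bc k X k') L w = x' ∧ g w = y := by
  letI : (Curv2.bc k X k').Over (Spec (CommRingCat.of k')) := ⟨Curv2.bcSnd k X k'⟩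
  let sK := Spec.map (CommRingCat.ofHom (algebraMap k K))
  let sk' := Spec.map (CommRingCat.ofHom (algebraMap k k'))
  obtain ⟨z, hz1, hz2⟩ := Scheme.Pullback.exists_preimage_pullback y x' h
  let P := pullback (Curv2.bcFst k X K) (Curv2.bcFst k X k')
  let ζ := P.fromSpecResidueField z
  let a := pullback.fst (Curv2.bcFst k X K) (Curv2.bcFst k X k')
  let b := pullback.snd (Curv2.bcFst k X K) (Curv2.bcFst k X k')
  have hab : a ≫ Curv2.bcFst k X K = b ≫ Curv2.bcFst k X k' := pullback.condition
  have hwK : Curv2.bcFst k X K ≫ (X ↘ Spec (CommRingCat.of k)) = Curv2.bcSnd k X K ≫ sK :=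
    pullback.condition
  have hwk' : Curv2.bcFst k X k' ≫ (X ↘ Spec (CommRingCat.of k)) = Curv2.bcSnd k X k' ≫ sk' :=
    pullback.condition
  let m : Spec (P.residueField z) ⟶ Spec (CommRingCat.of (K ⊗[k] k')) :=
    pullback.lift (ζ ≫ a ≫ Curv2.bcSnd k X K) (ζ ≫ b ≫ Curv2.bcSnd k X k')
      (show (ζ ≫ a ≫ Curv2.bcSnd k X K) ≫ sK = (ζ ≫ b ≫ Curv2.bcSnd k X k') ≫ sk' by
        simp only [Category.assoc]
        rw [← hwK, ← hwk', reassoc_of% hab]) ≫ (pullbackSpecIso k K k').hom
  let ψ : CommRingCat.of (K ⊗[k] k') ⟶ P.residueField z := Spec.preimage m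
  have hψ : Spec.map ψ = m := Spec.map_preimage m
  let q : Ideal (K ⊗[k] k') := RingHom.ker ψ.hom
  haveI : q.IsPrime := RingHom.ker_isPrime _
  have hq2 : q.primeCompl ≤ (IsUnit.submonoid (P.residueField z)).comap ψ.hom :=
    fun t ht => isUnit_iff_ne_zero.2 fun h0 => ht h0
  let lift : q.ResidueField →+* P.residueField z :=
    Ideal.ResidueField.lift q ψ.hom le_rfl hq2
  let gen : K ⊗[k] k' →+* q.ResidueField := algebraMap _ _
  letI alg : Algebra k' q.ResidueField :=
    (gen.comp (RingHomClass.toRingHom (Algebra.TensorProduct.includeRight (R := k) (A := K) (B := k')))).toAlgebra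
  let eK : CommRingCat.of K ⟶ CommRingCat.of q.ResidueField :=
    CommRingCat.ofHom (gen.comp Algebra.TensorProduct.includeLeftRingHom)
  let ek' : CommRingCat.of k' ⟶ CommRingCat.of q.ResidueField :=
    CommRingCat.ofHom (algebraMap k' q.ResidueField)
  let l : CommRingCat.of q.ResidueField ⟶ P.residueField z := CommRingCat.ofHom lift
  have hcomp : CommRingCat.ofHom (algebraMap k K) ≫ eK = CommRingCat.ofHom (algebraMap k k') ≫ ek' := by
    ext x
    exact congrArg gen (algebraMap_tmul_one (K := K) (k' := k') x)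
  have hlK : Spec.map l ≫ Spec.map eK = ζ ≫ a ≫ Curv2.bcSnd k X K := by
    rw [← Spec.map_comp, show eK ≫ l = CommRingCat.ofHom Algebra.TensorProduct.includeLeftRingHom ≫ ψ from
      CommRingCat.hom_ext (RingHom.ext fun x => Ideal.ResidueField.lift_algebraMap q ψ.hom le_rfl hq2 _),
      Spec.map_comp, hψ]
    simp only [m, Category.assoc]
    rw [pullbackSpecIso_hom_fst, pullback.lift_fst]
  have hlk' : Spec.map l ≫ Spec.map ek' = ζ ≫ b ≫ Curv2.bcSnd k X k' := by
    rw [← Spec.map_comp, show ek' ≫ l = CommRingCat.ofHom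
      (RingHomClass.toRingHom (Algebra.TensorProduct.includeRight (R := k) (A := K) (B := k'))) ≫ ψ from
      CommRingCat.hom_ext (RingHom.ext fun x => Ideal.ResidueField.lift_algebraMap q ψ.hom le_rfl hq2 _),
      Spec.map_comp, hψ]
    simp only [m, Category.assoc]
    rw [pullbackSpecIso_hom_snd, pullback.lift_snd]
  have hkk : Spec.map ek' ≫ sk' = Spec.map eK ≫ sK := by
    rw [← Spec.map_comp, ← Spec.map_comp, hcomp]
  let F := Curv2.bcFst k' (Curv2.bc k X k') q.ResidueField
  let S := Curv2.bcSnd k' (Curv2.bc k X k') q.ResidueField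
  have hFS : F ≫ Curv2.bcSnd k X k' = S ≫ Spec.map ek' := pullback.condition
  let g : Curv2.bc k' (Curv2.bc k X k') q.ResidueField ⟶ Curv2.bc k X K :=
    pullback.lift (F ≫ Curv2.bcFst k X k') (S ≫ Spec.map eK) (by
      show (F ≫ Curv2.bcFst k X k') ≫ (X ↘ Spec (CommRingCat.of k)) = (S ≫ Spec.map eK) ≫ sK
      rw [Category.assoc, hwk', reassoc_of% hFS, hkk, Category.assoc])
  have hg1 : g ≫ Curv2.bcFst k X K = F ≫ Curv2.bcFst k X k' := pullback.lift_fst _ _ _
  have hg2 : g ≫ Curv2.bcSnd k X K = S ≫ Spec.map eK := pullback.lift_snd _ _ _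
  have hpb : IsPullback g S (Curv2.bcSnd k X K) (Spec.map eK) := by
    refine IsPullback.of_right ?_ hg2 (IsPullback.of_hasPullback (X ↘ Spec (CommRingCat.of k)) sK)
    have := IsPullback.paste_horiz (IsPullback.of_hasPullback (Curv2.bcSnd k X k') (Spec.map ek'))
      (IsPullback.of_hasPullback (X ↘ Spec (CommRingCat.of k)) sk')
    rw [hkk] at this
    rwa [show g ≫ pullback.fst (X ↘ Spec (CommRingCat.of k)) sK = _ from hg1]
  haveI : Flat (Spec.map eK) := by
    rw [HasRingHomProperty.Spec_iff (P := @Flat)]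
    letI := eK.hom.toAlgebra
    show RingHom.Flat (algebraMap K q.ResidueField)
    rw [RingHom.flat_algebraMap_iff]
    infer_instance
  haveI : Flat g := MorphismProperty.of_isPullback hpb.flip (inferInstance : Flat (Spec.map eK))
  let t : Spec (P.residueField z) ⟶ Curv2.bc k' (Curv2.bc k X k') q.ResidueField :=
    pullback.lift (ζ ≫ b) (Spec.map l) (by rw [Category.assoc]; exact hlk'.symm)
  have ht1 : t ≫ F = ζ ≫ b := pullback.lift_fst _ _ _
  have ht2 : t ≫ S = Spec.map l := pullback.lift_snd _ _ _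
  have htg : t ≫ g = ζ ≫ a := by
    apply pullback.hom_ext
    · show (t ≫ g) ≫ Curv2.bcFst k X K = (ζ ≫ a) ≫ Curv2.bcFst k X K
      rw [Category.assoc, hg1, reassoc_of% ht1, Category.assoc, hab]
    · show (t ≫ g) ≫ Curv2.bcSnd k X K = (ζ ≫ a) ≫ Curv2.bcSnd k X K
      rw [Category.assoc, hg2, reassoc_of% ht2, hlK, Category.assoc]
  let p0 := IsLocalRing.closedPoint (P.residueField z)
  have hζ : ζ p0 = z := Scheme.fromSpecResidueField_apply _ _
  refine ⟨q.ResidueField, inferInstance, alg, g, t p0, fun hK => ?_, inferInstance, ?_, ?_⟩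
  · refine fg_top_of_tensor gen (fun _ => rfl) (fun x => ?_) hK
    obtain ⟨a', b', hb', rfl⟩ := IsFractionRing.div_surjective (A := (K ⊗[k] k') ⧸ q) x
    obtain ⟨a₀, rfl⟩ := Ideal.Quotient.mk_surjective a'
    obtain ⟨b₀, rfl⟩ := Ideal.Quotient.mk_surjective b'
    exact ⟨a₀, b₀, by simp [gen]⟩
  · show F (t p0) = x'
    rw [← Scheme.Hom.comp_apply, ht1, Scheme.Hom.comp_apply, hζ]
    exact hz2
  · rw [← Scheme.Hom.comp_apply, htg, Scheme.Hom.comp_apply, hζ]
    exact hz1

/-- The stalk map of a flat morphism is faithfully flat. -/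
theorem faithfullyFlat_stalkMap {W V : Scheme.{u}} (g : W ⟶ V) [Flat g] (w : W) :
    letI := (g.stalkMap w).hom.toAlgebra
    Module.FaithfullyFlat (V.presheaf.stalk (g w)) (W.presheaf.stalk w) := by
  letI := (g.stalkMap w).hom.toAlgebra
  exact @Module.FaithfullyFlat.of_flat_of_isLocalHom _ _ _ _ _ _ _
    (Flat.stalkMap g w) (g.toLRSHom.prop w)

theorem isGeomNormalAt_descend (k' : Type u) [Field k'] [Algebra k k'] (x' : ↥(Curv2.bc k X k'))
    (h : letI : (Curv2.bc k X k').Over (Spec (CommRingCat.of k')) := ⟨Curv2.bcSnd k X k'⟩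
      ∀ (k'' : Type u) [Field k''] [Algebra k' k''] (x'' : ↥(Curv2.bc k' (Curv2.bc k X k') k'')), Curv2.bcFst k' (Curv2.bc k X k') k'' x'' = x' →
          IsDomain ↥((Curv2.bc k' (Curv2.bc k X k') k'').presheaf.stalk x'') ∧ IsIntegrallyClosed ↥((Curv2.bc k' (Curv2.bc k X k') k'').presheaf.stalk x''))
    (K : Type u) [Field K] [Algebra k K] (y : ↥(Curv2.bc k X K))
    (hy : Curv2.bcFst k X K y = Curv2.bcFst k X k' x') :
    IsDomain ↥((Curv2.bc k X K).presheaf.stalk y) ∧ IsIntegrallyClosed ↥((Curv2.bc k X K).presheaf.stalk y) := by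
  letI : (Curv2.bc k X k').Over (Spec (CommRingCat.of k')) := ⟨Curv2.bcSnd k X k'⟩
  obtain ⟨L, _, _, g, w, -, hg, hw, rfl⟩ := exists_over_both k X k' K x' y hy
  obtain ⟨hd, hn⟩ := h L w hw
  letI := (g.stalkMap w).hom.toAlgebra
  haveI := faithfullyFlat_stalkMap g w
  exact isIntegrallyClosed_of_faithfullyFlat _ ((Curv2.bc k' (Curv2.bc k X k') L).presheaf.stalk w)

theorem isGeomRegularAt_descend (k' : Type u) [Field k'] [Algebra k k']
    (hfg : (⊤ : IntermediateField k k').FG) (x' : ↥(Curv2.bc k X k'))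
    (h : @Curv2.IsGeomRegularAt k' _ (Curv2.bc k X k') ⟨Curv2.bcSnd k X k'⟩ x') :
    Curv2.IsGeomRegularAt k X (Curv2.bcFst k X k' x') := by
  intro K _ _ hK y hy
  letI : (Curv2.bc k X k').Over (Spec (CommRingCat.of k')) := ⟨Curv2.bcSnd k X k'⟩
  obtain ⟨L, _, _, g, w, hL, hg, hw, rfl⟩ := exists_over_both k X k' K x' y hy
  haveI := h L (hL hK) w hw
  letI := (g.stalkMap w).hom.toAlgebra
  haveI := faithfullyFlat_stalkMap g w
  haveI := isNoetherianRing_of_faithfullyFlat ((Curv2.bc k X K).presheaf.stalk (g w))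
    ((Curv2.bc k' (Curv2.bc k X k') L).presheaf.stalk w)
  haveI : IsLocalHom (algebraMap ((Curv2.bc k X K).presheaf.stalk (g w))
      ((Curv2.bc k' (Curv2.bc k X k') L).presheaf.stalk w)) := g.toLRSHom.prop w
  exact RegLoc6.isRegularLocalRing_of_flat (B := (Curv2.bc k' (Curv2.bc k X k') L).presheaf.stalk w)

end Groth.Agent.VarBC
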