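import Groth.Prelude.Def_Curv2
import Mathlib.AlgebraicGeometry.Noetherian
import Mathlib.FieldTheory.IntermediateField.Adjoin.Algebra
import Mathlib.RingTheory.Flat.FaithfullyFlat.Algebra

/-! Local Noetherianity and finitely generated field extensions. -/

noncomputable section

set_option linter.style.haveILetI false
set_option backward.isDefEq.respectTransparency false
set_option backward.isDefEq.respectTransparency.types false

universe u

open CategoryTheory CategoryTheory.Limits AlgebraicGeometry TensorProduct

namespace Groth.Agent.VarBC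

variable (k : Type u) [Field k] (k' : Type u) [Field k'] [Algebra k k']

theorem isNoetherianRing_tensor_iff (hfg : (⊤ : IntermediateField k k').FG) (A : Type u) [CommRing A] [Algebra k A] :
    IsNoetherianRing (A ⊗[k] k') ↔ IsNoetherianRing A := by
  haveI : Algebra.EssFiniteType k k' := IntermediateField.fg_top_iff.1 hfg
  constructor
  · intro h
    haveI := h
    exact Submodule.IsNoetherian.of_isNoetherian_tensorProduct_of_faithfullyFlat (R := A) (M := A) (A := A ⊗[k] k')
      (isNoetherian_of_linearEquiv (TensorProduct.AlgebraTensorModule.rid A (A ⊗[k] k') (A ⊗[k] k')).symm)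
  · intro h
    haveI := h
    exact Algebra.EssFiniteType.isNoetherianRing A (A ⊗[k] k')

theorem isLocallyNoetherian_pullback_spec_iff (hfg : (⊤ : IntermediateField k k').FG)
    (R : CommRingCat.{u}) (g : Spec R ⟶ Spec (CommRingCat.of k)) :
    IsLocallyNoetherian (Spec R) ↔
      IsLocallyNoetherian (pullback g (Spec.map (CommRingCat.ofHom (algebraMap k k')))) := by
  obtain ⟨φ, rfl⟩ := Spec.map_surjective g
  letI : Algebra k R := φ.hom.toAlgebra
  let e : pullback (Spec.map φ) (Spec.map (CommRingCat.ofHom (algebraMap k k'))) ≅
      Spec (CommRingCat.of (R ⊗[k] k')) := pullbackSpecIso k R k'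
  constructor
  · intro h
    haveI : IsNoetherianRing (R : Type u) := isLocallyNoetherian_Spec.1 h
    haveI : IsNoetherianRing (CommRingCat.of (R ⊗[k] k')) := (isNoetherianRing_tensor_iff k k' hfg R).2 ‹_›
    exact isLocallyNoetherian_of_isOpenImmersion e.hom
  · intro h
    haveI := h
    haveI := isLocallyNoetherian_of_isOpenImmersion e.inv
    exact isLocallyNoetherian_Spec.2 ((isNoetherianRing_tensor_iff k k' hfg R).1 (isLocallyNoetherian_Spec.1 this))

variable (X : Scheme.{u}) [X.Over (Spec (CommRingCat.of k))]

theorem isLocallyNoetherian_bc_iff (hfg : (⊤ : IntermediateField k k').FG) :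
    IsLocallyNoetherian X ↔ IsLocallyNoetherian (Curv2.bc k X k') := by
  let sk' := Spec.map (CommRingCat.ofHom (algebraMap k k'))
  let 𝒰 := Scheme.Pullback.openCoverOfLeft X.affineCover (X ↘ Spec (CommRingCat.of k)) sk'
  rw [isLocallyNoetherian_iff_openCover X.affineCover, isLocallyNoetherian_iff_openCover (X := Curv2.bc k X k') 𝒰]
  exact forall_congr' fun i => isLocallyNoetherian_pullback_spec_iff k k' hfg _ _

end Groth.Agent.VarBC
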